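import Groth.Agent.H28RR.Det
import Groth.Agent.H26Base.BasisLite
import Groth.Agent.H17.FLI.TopForms

/-!
# The determinant of a rank two module with a section degenerating in codimension two
-/

set_option autoImplicit false
set_option linter.style.haveILetI false
set_option backward.isDefEq.respectTransparency.types false
set_option maxHeartbeats 1600000

universe u

open CategoryTheory CategoryTheory.Limits AlgebraicGeometry TopologicalSpace Opposite exteriorPower
open Groth.Agent.H11Tilde Groth.Agent.H11Ample Groth.Agent.H26Base.BasisLite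

noncomputable section

namespace Groth.Agent.H7Serre

variable {X : Scheme.{u}}

theorem mono_tensorModMap {M N B : X.Modules} (φ : M ⟶ N) [Mono φ] (hB : PicF.IsInvertible B) :
    Mono (LimSh.tensorModMap φ B) :=
  (H10Coh.Tw.shortExact_seq (S := ShortComplex.mk φ (cokernel.π φ) (cokernel.condition φ))
    { exact := ShortComplex.exact_cokernel φ } hB).mono_f

/-- If `0 → O' → E → Q → 0` is exact, `Q ⊆ B` is contained in no smaller invertible submodule, and `E` has rank two,
then `det E ≅ O' ⊗ B`. -/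
theorem nonempty_det_iso {S : ShortComplex X.Modules} (hS : S.ShortExact) (h₁ : PicF.IsInvertible S.X₁)
    (h₂ : FlatMod.IsFinLocFreeOfRank 2 S.X₂) {B : X.Modules} (hB : PicF.IsInvertible B) (j : S.X₃ ⟶ B) [Mono j]
    (hI : ∀ (x : X) (r : X.presheaf.stalk x),
      (∀ q : S.X₃.presheaf.stalk x, ∃ b : B.presheaf.stalk x, H06Mod.stalkLin j x q = r • b) → IsUnit r)
    {L : X.Modules} (hL : ExtPow.IsExtPow 2 S.X₂ L) : Nonempty (L ≅ CohB1.tensorMod S.X₁ B) := by
  have hL1 := H17.FLI.isInvertible_extPow h₂ hL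
  haveI := hS.mono_f
  haveI := hS.epi_g
  let c : S.X₂ ⟶ B := S.g ≫ j
  obtain ⟨φ, g, hg⟩ := H22Alg.ExtPowHom.exists_hom hL (M := CohB1.tensorMod S.X₂ B)
    (fun U => exteriorPower.alternatingMapLinearEquiv (H28RR.swapAlt c U.1)) fun U V h v => by
      rw [exteriorPower.alternatingMapLinearEquiv_apply_ιMulti, exteriorPower.alternatingMapLinearEquiv_apply_ιMulti,
        H28RR.swapAlt_apply, H28RR.swapAlt_apply, map_sub, tm_res, tm_res, app_map_apply, app_map_apply]
  have hgen : ∀ (U : X.affineOpens) (v : Fin 2 → Γ(S.X₂, U.1)),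
      g.app U.1 ((φ U).symm (ιMulti _ 2 v)) = tm (v 1) (c.app U.1 (v 0)) - tm (v 0) (c.app U.1 (v 1)) := by
    intro U v
    rw [hg, LinearEquiv.apply_symm_apply, exteriorPower.alternatingMapLinearEquiv_apply_ιMulti,
      H28RR.swapAlt_apply]
  have hS' := H10Coh.Tw.shortExact_seq hS hB
  haveI := hS'.mono_f
  haveI : Mono (LimSh.tensorModMap S.f B) := hS'.mono_f
  haveI := mono_tensorModMap j hB
  have h0 : g ≫ (H10Coh.Tw.seq S hB).g = 0 := by
    refine (cancel_mono (LimSh.tensorModMap j B)).1 (Eq.trans ?_ Limits.zero_comp.symm)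
    refine H17.AffHom.hom_ext fun U x => ?_
    obtain ⟨y, rfl⟩ := (φ U).symm.surjective x
    show (LimSh.tensorModMap j B).app U.1
      ((LimSh.tensorModMap S.g B).app U.1 (g.app U.1 ((φ U).symm y))) = 0
    induction y using H22Alg.ExtPowAlg.induction with
    | hgen v =>
      rw [hgen, map_sub, H10Coh.Tw.map_tm, H10Coh.Tw.map_tm, map_sub, H10Coh.Tw.map_tm, H10Coh.Tw.map_tm]
      exact sub_eq_zero.2 (H28RR.tm_comm hB (c.app U.1 (v 1)) (c.app U.1 (v 0)))
    | h0 => simp
    | hadd x y hx hy => simp only [map_add, hx, hy, add_zero]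
    | hsmul r x hx => simp only [map_smul, Scheme.Modules.Hom.app_smul, hx, smul_zero]
  let γ : L ⟶ CohB1.tensorMod S.X₁ B := hS'.exact.lift g h0
  have hγ : γ ≫ LimSh.tensorModMap S.f B = g := hS'.exact.lift_f g h0
  haveI : Epi γ := by
    refine H11Tilde.epi_of_locally_surjective _ fun W t x hx => ?_
    obtain ⟨V, hV, u, o, hxV, hu, ho⟩ := H10Coh.Tw.exists_eq_tm hB t hx
    obtain ⟨U₁, o₁, hxU₁, ho₁⟩ := exists_gen h₁ x
    obtain ⟨U₂, hxU₂, ⟨e₂⟩⟩ := h₂ x
    obtain ⟨m, hm⟩ := exists_isBasisOn_of_chart S.X₂ e₂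
    obtain ⟨A, hA, hxA, hAle⟩ :=
      exists_isAffineOpen_mem_and_subset (x := x) (U := V ⊓ U₁ ⊓ U₂) ⟨⟨hxV, hxU₁⟩, hxU₂⟩
    have hAV : A ≤ V := fun y hy => (hAle hy).1.1
    have hA₁ : A ≤ U₁ := fun y hy => (hAle hy).1.2
    have hA₂ : A ≤ U₂ := fun y hy => (hAle hy).2
    let e : Fin 2 → Γ(S.X₂, A) := fun i => S.X₂.presheaf.map (homOfLE hA₂).op (m i)
    let w : Γ(B, A) := B.presheaf.map (homOfLE hAV).op u
    have hw : IsGen B w := hu.res hAV
    have he' : IsGen S.X₁ (S.X₁.presheaf.map (homOfLE hA₁).op o₁) := ho₁.res hA₁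
    set o' : Γ(S.X₁, A) := S.X₁.presheaf.map (homOfLE hA₁).op o₁ with ho'
    -- the coefficients of the composite, and of the section
    choose f hf using fun i => exists_coeff hw (c.app A (e i))
    obtain ⟨a, ha⟩ := (hm A hA₂).2 (S.f.app A o')
    rw [comb, Fin.sum_univ_two] at ha
    -- the value on the wedge of the basis
    let ω := (φ ⟨A, hA⟩).symm (ιMulti _ 2 e)
    obtain ⟨l, hl⟩ := (bijective_tm (F := S.X₁) hw le_rfl).2 (γ.app A ω)
    rw [H10Coh.mres_self] at hl
    obtain ⟨r, hr⟩ := exists_coeff he' l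
    have h1 : (LimSh.tensorModMap S.f B).app A (γ.app A ω) = g.app A ω :=
      congr($(congrArg (fun z => Scheme.Modules.Hom.app z A) hγ) _)
    rw [show g.app A ω = _ from hgen ⟨A, hA⟩ e, ← hl, hr, H10Coh.Tw.map_tm, Scheme.Modules.Hom.app_smul,
      ← ha, hf, hf, tm_smul_right, tm_smul_right, ← tm_smul_left, ← tm_smul_left] at h1
    have h2 : (r * a 0) • e 0 + (r * a 1) • e 1 = f 0 • e 1 - f 1 • e 0 := by
      refine H10Coh.Tw.tm_inj hw ?_
      rw [mul_smul, mul_smul, ← smul_add, h1, sub_eq_iff_eq_add, ← tm_add_left, sub_add_cancel]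
    have h3 : f 1 = -(r * a 0) ∧ f 0 = r * a 1 := by
      have hb : comb S.X₂ m hA₂ (![r * a 0, r * a 1]) = comb S.X₂ m hA₂ (![-f 1, f 0]) := by
        rw [comb, comb, Fin.sum_univ_two, Fin.sum_univ_two]
        simp only [Matrix.cons_val_zero, Matrix.cons_val_one, neg_smul]
        exact h2.trans (by abel)
      have h4 := (hm A hA₂).1 hb
      have h5 : r * a 0 = -f 1 := congrFun h4 0
      exact ⟨by rw [h5, neg_neg], (congrFun h4 1).symm⟩
    -- hence the coefficient is a unit at the point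
    have hru : IsUnit (X.presheaf.germ A x hxA r) := by
      refine hI x _ fun q => ?_
      obtain ⟨p, rfl⟩ := H06Mod.surjective_stalk_of_epi S.g x q
      obtain ⟨W', hxW', s, rfl⟩ := S.X₂.presheaf.exists_germ_eq p
      have hle : A ⊓ W' ≤ U₂ := inf_le_left.trans hA₂
      obtain ⟨d, hd⟩ := (hm (A ⊓ W') hle).2 (S.X₂.presheaf.map (homOfLE (inf_le_right : A ⊓ W' ≤ W')).op s)
      rw [comb, Fin.sum_univ_two] at hd
      let res := X.presheaf.map (homOfLE (inf_le_left : A ⊓ W' ≤ A)).op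
      let a' : Fin 2 → Γ(X, A ⊓ W') := fun i => res (a i)
      refine ⟨B.presheaf.germ (A ⊓ W') x ⟨hxA, hxW'⟩
        ((d 0 * a' 1 - d 1 * a' 0) • B.presheaf.map (homOfLE (inf_le_left : A ⊓ W' ≤ A)).op w), ?_⟩
      rw [← TopCat.Presheaf.germ_res_apply S.X₂.presheaf (homOfLE (inf_le_right : A ⊓ W' ≤ W')) x ⟨hxA, hxW'⟩ s,
        show (TopCat.Presheaf.stalkFunctor Ab.{u} x).map S.g.mapPresheaf
          (S.X₂.presheaf.germ (A ⊓ W') x ⟨hxA, hxW'⟩ _) = _ from TopCat.Presheaf.stalkFunctor_map_germ_apply _ _ _ _ _,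
        H06Mod.stalkLin_germ,
        ← X.presheaf.germ_res_apply (homOfLE (inf_le_left : A ⊓ W' ≤ A)) x ⟨hxA, hxW'⟩ r, ← Mero.germ_smul]
      refine congrArg _ ?_
      change c.app (A ⊓ W') _ = res r • _
      rw [← hd, map_add, Scheme.Modules.Hom.app_smul, Scheme.Modules.Hom.app_smul]
      have hc : ∀ i, c.app (A ⊓ W') (S.X₂.presheaf.map (homOfLE hle).op (m i)) =
          res (f i) • B.presheaf.map (homOfLE (inf_le_left : A ⊓ W' ≤ A)).op w := fun i => by
        rw [← Scheme.Modules.map_smul, ← hf, ← app_map_apply]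
        exact congrArg _ (H10Coh.mres_mres _ _ _ _).symm
      rw [hc, hc, smul_smul, smul_smul, ← add_smul, smul_smul, h3.1, h3.2]
      congr 1
      simp only [a', map_neg, map_mul]
      ring
    -- so it generates near the point
    let A' := X.basicOpen r
    have hxA' : x ∈ A' := (X.mem_basicOpen r x hxA).2 hru
    have hA'A : A' ≤ A := X.basicOpen_le r
    obtain ⟨q, hq⟩ := exists_coeff (he'.res hA'A) (S.X₁.presheaf.map (homOfLE (hA'A.trans hAV)).op o)
    have hrA' : IsUnit (X.presheaf.map (homOfLE hA'A).op r) := RingedSpace.isUnit_res_basicOpen _ r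
    refine ⟨A', hA'A.trans (hAV.trans hV), hxA', (q * hrA'.unit⁻¹.1) • L.presheaf.map (homOfLE hA'A).op ω, ?_⟩
    rw [Scheme.Modules.Hom.app_smul, app_map_apply, ← hl, tm_res, hr, Scheme.Modules.map_smul, ← tm_smul_left,
      smul_smul, mul_assoc, IsUnit.val_inv_mul, mul_one, ← hq]
    have hm' : (CohB1.tensorMod S.X₁ B).presheaf.map (homOfLE (hA'A.trans (hAV.trans hV))).op t =
        tm (S.X₁.presheaf.map (homOfLE (hA'A.trans hAV)).op o)
          (B.presheaf.map (homOfLE (hA'A.trans hAV)).op u) := by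
      rw [← tm_res, ← ho, H10Coh.mres_mres]
    rw [hm', H10Coh.mres_mres]
  haveI := H28RR.epi_invertible_isIso γ hL1
    (H29RR.rank_one_of_isInvertible (H11Ample.isInvertible_tensor h₁ hB))
  exact ⟨asIso γ⟩

end Groth.Agent.H7Serre
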