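import Groth.Agent.H17.FLI.Main
import Groth.Agent.H17.FLI.Adjunction
import Groth.Agent.H17.FLI.ExtLocal
import Groth.Agent.H17.FLI.DivExt
import Groth.Agent.H17.EdgeIso.Codim
import Groth.Agent.H7ExtEdge.Bidual
import Groth.Agent.H11Ample.Converse

/-!
# The first Ext sheaf of the ideal of a regular immersion of codimension two
-/

set_option autoImplicit false
set_option linter.style.haveILetI false
set_option linter.unusedSectionVars false
set_option backward.isDefEq.respectTransparency false
set_option synthInstance.maxHeartbeats 400000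
set_option maxHeartbeats 1600000

universe u

open CategoryTheory CategoryTheory.Limits CategoryTheory.Abelian AlgebraicGeometry Opposite TopologicalSpace
open Groth.Agent.H10Inj.SheafExt Groth.Agent.H17.FLI

namespace Groth.Agent.H7Serre

variable {P Y : Scheme.{u}} (ι : Y ⟶ P) [IsClosedImmersion ι]

/-- `0 → J → O → ι_* O_Y → 0`. -/
noncomputable abbrev idealSeq : ShortComplex P.Modules :=
  ShortComplex.mk (ClSub.idealModι ι.ker) (ClSub.toSubscheme ι.ker ≫ (H28Vert.quotModKerIso ι).hom)
    (by rw [← Category.assoc, show ClSub.idealModι ι.ker ≫ ClSub.toSubscheme ι.ker = 0 from kernel.condition _,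
      Limits.zero_comp])

theorem shortExact_idealSeq : (idealSeq ι).ShortExact := by
  haveI := H10Coh.epi_toSubscheme ι.ker
  refine ShortComplex.shortExact_of_iso (?_ : ShortComplex.mk (kernel.ι (ClSub.toSubscheme ι.ker))
    (ClSub.toSubscheme ι.ker) (kernel.condition _) ≅ idealSeq ι) (H10Coh.shortExact_kernel (ClSub.toSubscheme ι.ker))
  refine (ShortComplex.isoMk (Iso.refl _) (Iso.refl _) (H28Vert.quotModKerIso ι)
    ?_ ?_)
  · exact (Category.id_comp _).trans (Category.comp_id _).symm
  · exact Category.id_comp _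

/-- Ext groups of a quotient by a regular sequence vanish below its length. -/
theorem subsingleton_ext_of_chart [IsLocallyNoetherian P] {r i : ℕ}
    (hι : RegImm.IsRegularImmersionOfCodim RegImm.Kind.regular r ι) (hi : i < r) (y : P) :
    Subsingleton (Ext (ModuleCat.of (P.presheaf.stalk y) ((O' ι).presheaf.stalk y))
      (ModuleCat.of (P.presheaf.stalk y) (P.presheaf.stalk y)) i) := by
  by_cases hy : y ∈ Set.range ι.base
  · obtain ⟨x, rfl⟩ := hy
    obtain ⟨U, hxU, -, rs, rfl, hreg, hker⟩ := hι.2 x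
    letI := P.presheaf.algebra_section_stalk (⟨ι.base x, hxU⟩ : U.1)
    haveI := U.2.isLocalization_stalk ⟨ι.base x, hxU⟩
    haveI : Module.Flat Γ(P, U.1) (P.presheaf.stalk (ι.base x)) :=
      IsLocalization.flat _ (U.2.primeIdealOf ⟨ι.base x, hxU⟩).asIdeal.primeCompl
    have h := (hreg : RingTheory.Sequence.IsRegular Γ(P, U.1) rs).toIsWeaklyRegular.of_flat
      (S := P.presheaf.stalk (ι.base x))
    have hmem : ∀ a ∈ rs.map (algebraMap Γ(P, U.1) (P.presheaf.stalk (ι.base x))), a ∈ idI ι x := by
      intro a ha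
      show a ∈ RingHom.ker (ι.stalkMap x).hom
      rw [← H29Omega.range_idealStalk_ker ι x, H29Omega.range_idealStalk ι.ker (ι.base x) U hxU]
      obtain ⟨b, hb, rfl⟩ := List.mem_map.1 ha
      refine Ideal.mem_map_of_mem _ ?_
      rw [Scheme.Hom.ker_apply, show RingHom.ker (ι.app U.1).hom = Ideal.ofList rs from hker]
      exact Ideal.subset_span hb
    refine (ExtLocal.ext_weaklyRegular _ (M := P.presheaf.stalk (ι.base x))
      (ModuleCat.of (P.presheaf.stalk (ι.base x)) ((O' ι).presheaf.stalk (ι.base x))) h fun a ha σ => ?_).1 i ?_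
    · obtain ⟨b, rfl⟩ := exists_smul_oneGerm ι x σ
      rw [smul_comm, smul_oneGerm_of_mem ι x (hmem a ha), smul_zero]
    · rw [List.length_map]; exact hi
  · haveI := H16Derived.ProjFormula.subsingleton_stalk_push ι (Coh.structureModule Y) y hy
    have hz : IsZero (ModuleCat.of (P.presheaf.stalk y) ((O' ι).presheaf.stalk y)) :=
      ModuleCat.isZero_of_subsingleton _
    exact subsingleton_of_forall_eq 0 fun z => by
      rw [← Ext.mk₀_id_comp z, hz.eq_of_src (𝟙 _) 0, Ext.mk₀_zero, Ext.zero_comp]

/-- The Ext sheaves of a regular immersion into a bundle vanish below the codimension. -/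
theorem isZero_ext_below [IsLocallyNoetherian P] [HasInjectiveResolutions P.Modules] {r i : ℕ}
    (hι : RegImm.IsRegularImmersionOfCodim RegImm.Kind.regular r ι) (hi : i < r) {E : P.Modules}
    (hE : FlatMod.IsFinLocFree E) : IsZero (((homFunctor (O' ι)).rightDerived i).obj E) := by
  haveI : IsLocallyNoetherian Y := LocallyOfFiniteType.isLocallyNoetherian ι
  have hF : Coh.IsCoh (O' ι) := H10Coh.isCoh_push_of_isFinite ι _ (H10Coh.isCoh_structureModule' Y)
  rw [H17.EdgeIso.isZero_iff_stalks]
  intro y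
  obtain ⟨e⟩ := H17.EdgeIso.nonempty_stalk_ext _ hF y i E
  obtain ⟨n, ⟨b⟩⟩ := H22Alg.KExists.stalk_free hE y
  refine @Equiv.subsingleton _ _ e.toEquiv ?_
  exact H17.EdgeIso.subsingleton_ext_finite_free _ b (subsingleton_ext_of_chart ι hι hi y)

/-- The second Ext sheaf into an invertible module with trivialising determinant of the conormal sheaf. -/
theorem nonempty_ext_top_iso [IsLocallyNoetherian P] [HasInjectiveResolutions P.Modules] {r : ℕ}
    (hι : RegImm.IsRegularImmersionOfCodim RegImm.Kind.regular r ι) {M : P.Modules} (hM : PicF.IsInvertible M)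
    {L : Y.Modules} (hL : ExtPow.IsExtPow r (Omega.conormal ι) L) (e : L ≅ (Scheme.Modules.pullback ι).obj M) :
    Nonempty (((homFunctor (O' ι)).rightDerived r).obj M ≅ O' ι) := by
  let J : InjectiveResolution M := injectiveResolution M
  let J' : InjectiveResolution ((H16Derived.ProjFormula.push ι).obj ((H16Derived.ProjFormula.pull ι).obj M)) :=
    injectiveResolution _
  obtain ⟨e1⟩ := nonempty_reduce_iso ι hι M J J'
  obtain ⟨e2⟩ := nonempty_extH_iso ι J' (isFP_O' ι) hι hL
  let M' := (Scheme.Modules.pullback ι).obj M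
  have hM' : PicF.IsInvertible M' := H11Ample.isInvertible_pullback ι hM
  obtain ⟨e3⟩ := nonempty_homSh_tensor_iso hM' (Coh.structureModule Y)
  let a : RefHull.homSh L M' ≅ Coh.structureModule Y :=
    (homCongrIso e).app M' ≪≫
      (homFunctor M').mapIso ((H11Ample.tensorLeftUnitIso M').symm ≪≫ H11Ample.tensorCommIso _ _) ≪≫ e3
  exact ⟨J.isoRightDerivedObj (homFunctor (O' ι)) r ≪≫ e1 ≪≫ e2 ≪≫
    (H16Derived.ProjFormula.push ι).mapIso a⟩

variable [IsLocallyNoetherian P] [HasInjectiveResolutions P.Modules]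

/-- The first Ext sheaf of the ideal is the second one of the structure sheaf, and maps out of the ideal into a
bundle extend. -/
theorem ideal_ext {i : ℕ} (hι : RegImm.IsRegularImmersionOfCodim RegImm.Kind.regular (i + 2) ι) {M : P.Modules}
    (hM : FlatMod.IsFinLocFree M) :
    Nonempty (((homFunctor (ClSub.idealMod ι.ker)).rightDerived 1).obj M ≅ ((homFunctor (O' ι)).rightDerived 2).obj M) ∧
      IsIso ((homPre (ClSub.idealModι ι.ker)).app M) := by
  let S := idealSeq ι
  obtain ⟨hm, hex, δ, hδ⟩ := rightDerived_les (homPre S.g) (homPre S.f)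
    (NatTrans.ext (funext fun I => conjG_comp_conjF_app S (flipAdj S.X₁) (flipAdj S.X₂) (flipAdj S.X₃) I))
    (fun I _ => shortExact_homPre S (shortExact_idealSeq ι) I) M
  haveI := preservesFiniteColimits_homFunctor (Coh.structureModule P) (H22Alg.KPush.finLocFree_structure P)
  have hz : ∀ p, 1 ≤ p → IsZero (((homFunctor S.X₂).rightDerived p).obj M) := fun p hp =>
    isZero_rightDerived_of_exact (homFunctor (Coh.structureModule P)) M p hp
  have h0 : IsZero (((homFunctor S.X₃).rightDerived 0).obj M) := isZero_ext_below ι hι (by omega) hM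
  have h1 : IsZero (((homFunctor S.X₃).rightDerived 1).obj M) := isZero_ext_below ι hι (by omega) hM
  obtain ⟨⟨_, e0⟩, _⟩ := hδ 0
  obtain ⟨⟨_, e1⟩, ⟨_, e1'⟩⟩ := hδ 1
  haveI : Mono (δ 1) := e1.mono_g ((hz 1 le_rfl).eq_of_src _ _)
  haveI : Epi (δ 1) := e1'.epi_f ((hz 2 (by omega)).eq_of_tgt _ _)
  refine ⟨⟨@asIso _ _ _ _ (δ 1) (isIso_of_mono_of_epi _)⟩, ?_⟩
  haveI : Epi ((NatTrans.rightDerived (homPre S.f) 0).app M) := e0.epi_f (h1.eq_of_tgt _ _)
  obtain ⟨_, e00⟩ := hex 0
  haveI : Mono ((NatTrans.rightDerived (homPre S.f) 0).app M) := e00.mono_g (h0.eq_of_src _ _)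
  haveI := isIso_of_mono_of_epi ((NatTrans.rightDerived (homPre S.f) 0).app M)
  have ht := toRightDerivedZero_natTrans (homPre S.f) M
  exact IsIso.of_isIso_fac_right ht

end Groth.Agent.H7Serre
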