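import Groth.Agent.H7Serre.Pushout
import Groth.Agent.H7Serre.Det
import Groth.Agent.H23KS.DualSum
import Groth.Agent.H17.Horrocks.Main
import Groth.Agent.H17.Canon.RDualPn
import Groth.Agent.H28Lift.ExtLine
import Groth.Agent.H22Alg.PnHilbert
import Groth.Agent.H22Alg.ExtPowTwist
import Groth.Agent.H22Alg.RegSheaf

/-!
# The Serre correspondence in rank two on projective space
-/

set_option autoImplicit false
set_option linter.style.haveILetI false
set_option linter.unusedSectionVars false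
set_option backward.isDefEq.respectTransparency false
set_option synthInstance.maxHeartbeats 400000
set_option maxHeartbeats 1600000

universe u

open CategoryTheory CategoryTheory.Limits AlgebraicGeometry Opposite TopologicalSpace
open Groth.Agent.H10Inj.SheafExt Groth.Agent.H17.FLI Groth.Agent.H06Mod Groth.Agent.H7ExtEdge

noncomputable section

namespace Groth.Agent.H7Serre

attribute [local instance 10000] H10Coh.hasSheafifyAb H10Coh.hasWeakSheafifyAb H10Coh.hasExtAb H10Coh.enoughInjAb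

theorem subsingleton_HH_X₃ {X : Scheme.{u}} {S : ShortComplex X.Modules} (hS : S.ShortExact) (p : ℕ)
    (h₂ : Subsingleton (Coh.HH X S.X₂ p)) (h₁ : Subsingleton (Coh.HH X S.X₁ (p + 1))) :
    Subsingleton (Coh.HH X S.X₃ p) := subsingleton_of_forall_eq 0 fun x => by
  have hS' := hS.map_of_exact (H10Coh.shF X)
  have h0 : (x.comp hS'.extClass rfl : Coh.HH X S.X₁ (p + 1)) = 0 := h₁.elim _ _
  obtain ⟨t, ht⟩ := Abelian.Ext.covariant_sequence_exact₃ _ hS' x rfl h0
  rw [← ht, show t = 0 from h₂.elim _ _]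
  exact Abelian.Ext.zero_comp _ _ _ _ _

variable {k : Type u} [Field k] {n : ℕ}

theorem nonempty_dual_twist (d : ℤ) :
    Nonempty (RefHull.dual (Twist.twistProjSpace n k d) ≅ Twist.twistProjSpace n k (-d)) := by
  obtain ⟨e⟩ := H17.PnExt.nonempty_tensor_od n k (p := d) (q := -d) (r := 0) (by ring)
  obtain ⟨e0⟩ := H11Tilde.nonempty_twist_zero_iso (H10Coh.Pn.Gr n k)
  let t : CohB1.tensorMod (Twist.twistProjSpace n k d) (Twist.twistProjSpace n k (-d)) ≅
      Coh.structureModule (CohB1.ProjSpace n k) := e ≪≫ e0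
  obtain ⟨h⟩ := nonempty_homSh_tensor_iso (H22Alg.RegSheaf.isInvertible_twistProjSpace n k d)
    (Twist.twistProjSpace n k (-d))
  exact ⟨(homFunctor (Twist.twistProjSpace n k d)).mapIso t.symm ≪≫ h⟩

theorem subsingleton_HH_hom_twists (c : ℤ) {N : ℕ} (d : Fin N → ℤ) {i : ℕ} (h1 : 1 ≤ i) (h2 : i < n) :
    Subsingleton (Coh.HH (CohB1.ProjSpace n k)
      ((homFunctor (∐ fun j => Twist.twistProjSpace n k (d j))).obj (Twist.twistProjSpace n k c)) i) := by
  let Q := ∐ fun j => Twist.twistProjSpace n k (d j)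
  have hQ : FlatMod.IsFinLocFree Q :=
    H16Derived.KFlat.Stalk.isFinLocFree_sigma _ fun j =>
      H22Alg.KModel.finLocFree_invertible (H22Alg.RegSheaf.isInvertible_twistProjSpace n k (d j))
  let e : RefHull.dual Q ≅ ∐ fun j => Twist.twistProjSpace n k (-d j) :=
    H23KS.dualSigma (fun j => Twist.twistProjSpace n k (d j)) ≪≫
      Sigma.mapIso fun j => (nonempty_dual_twist (d j)).some
  have hmid := (H17.Horrocks.mid_low_of_sum (d := n) (k := k) (by omega) (fun j => -d j) e).1 c i h1 h2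
  exact H10Coh.subsingleton_HH_of_iso ((dualHomIso Q hQ).app _) i ((H17.Horrocks.van_swap_iff _ c i).2 hmid)

/-- The extension with generating class on projective space. -/
theorem exists_extension [IsAlgClosed k] (hn : 3 ≤ n) {Y : Scheme.{u}} (ι : Y ⟶ CohB1.ProjSpace n k)
    [IsClosedImmersion ι] (hι : RegImm.IsRegularImmersionOfCodim RegImm.Kind.regular 2 ι) (c : ℤ)
    {L : Y.Modules} (hL : ExtPow.IsExtPow 2 (Omega.conormal ι) L)
    (eL : L ≅ (Scheme.Modules.pullback ι).obj (Twist.twistProjSpace n k (-c))) :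
    ∃ (F : (CohB1.ProjSpace n k).Modules) (a : Twist.twistProjSpace n k (-c) ⟶ F)
      (b : F ⟶ ClSub.idealMod ι.ker) (w : a ≫ b = 0),
      (ShortComplex.mk a b w).ShortExact ∧ FlatMod.IsFinLocFree F ∧
      ∀ x, Nonempty (F.presheaf.stalk x ≃ₗ[(CohB1.ProjSpace n k).presheaf.stalk x]
        (Fin 2 → (CohB1.ProjSpace n k).presheaf.stalk x)) := by
  let P := CohB1.ProjSpace n k
  haveI : IsNoetherian P := H10Coh.ProjQ.isNoetherian_proj (H10Coh.Pn.Gr n k)
  haveI : IsLocallyNoetherian Y := LocallyOfFiniteType.isLocallyNoetherian ι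
  haveI : HasInjectiveResolutions P.Modules := inferInstance
  let M := Twist.twistProjSpace n k (-c)
  have hM : PicF.IsInvertible M := H22Alg.RegSheaf.isInvertible_twistProjSpace n k _
  have hMf := H22Alg.KModel.finLocFree_invertible hM
  have hO : Coh.IsCoh (O' ι) := H10Coh.isCoh_push_of_isFinite ι _ (H10Coh.isCoh_structureModule' Y)
  have hJ : Coh.IsCoh (ClSub.idealMod ι.ker) := by
    let s := idealSeq ι
    have hk := H10Coh.isCoh_kernel s.g
      (H16Derived.KFlat.Stalk.isCoh_of_isFinLocFree (H22Alg.KPush.finLocFree_structure P)) hO.1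
    exact H10Coh.isCoh_of_iso
      ((IsLimit.conePointUniqueUpToIso (shortExact_idealSeq ι).fIsKernel (kernelIsKernel s.g)).symm : kernel s.g ≅ s.X₁) hk
  obtain ⟨N, d, p, hp⟩ := H17.Canon.exists_epi_twistProjSpace _ hJ
  have hQ : FlatMod.IsFinLocFree (∐ fun j => Twist.twistProjSpace n k (d j)) :=
    H16Derived.KFlat.Stalk.isFinLocFree_sigma _ fun j =>
      H22Alg.KModel.finLocFree_invertible (H22Alg.RegSheaf.isInvertible_twistProjSpace n k (d j))
  let S := ShortComplex.mk (kernel.ι p) p (kernel.condition p)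
  have hS : S.ShortExact := { exact := ShortComplex.exact_of_f_is_kernel _ (kernelIsKernel p) }
  have hK : Coh.IsCoh S.X₁ := H10Coh.isCoh_kernel p (H16Derived.KFlat.Stalk.isCoh_of_isFinLocFree hQ) hJ.1
  obtain ⟨⟨e₁⟩, hiso⟩ := ideal_ext ι (i := 0) hι hMf
  obtain ⟨e₂⟩ := nonempty_ext_top_iso ι hι hM hL eL
  -- the sequence of Ext sheaves
  obtain ⟨hm, hex, δ, hδ⟩ := rightDerived_les (homPre S.g) (homPre S.f)
    (NatTrans.ext (funext fun I => conjG_comp_conjF_app S (flipAdj S.X₁) (flipAdj S.X₂) (flipAdj S.X₃) I))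
    (fun I _ => shortExact_homPre S hS I) M
  obtain ⟨⟨wd, ed⟩, ⟨wd', ed'⟩⟩ := hδ 0
  obtain ⟨wa, ea⟩ := hex 0
  haveI : Epi (δ 0) := ed'.epi_f ((isZero_ext_of_flf hQ M 0).eq_of_tgt _ _)
  let a := (NatTrans.rightDerived (homPre S.g) 0).app M
  let b := (NatTrans.rightDerived (homPre S.f) 0).app M
  haveI : Mono a := hm
  let t : ∀ A : P.Modules, (homFunctor A).obj M ≅ ((homFunctor A).rightDerived 0).obj M :=
    fun A => asIso ((homFunctor A).toRightDerivedZero.app M)
  haveI := hiso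
  have hH2 : Subsingleton (Coh.HH P (((homFunctor S.X₃).rightDerived 0).obj M) 2) := by
    refine H10Coh.subsingleton_HH_of_iso (asIso ((homPre (ClSub.idealModι ι.ker)).app M) ≪≫ t _) 2 ?_
    haveI := preservesFiniteColimits_homFunctor (Coh.structureModule P) (H22Alg.KPush.finLocFree_structure P)
    obtain ⟨e0⟩ := nonempty_homSh_tensor_iso (H11Proj.isInvertible_structureModule (X := P)) M
    refine H10Coh.subsingleton_HH_of_iso
      (e0.symm ≪≫ (homFunctor (Coh.structureModule P)).mapIso (H11Ample.tensorLeftUnitIso M)) 2 ?_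
    exact H10Coh.Pn.subsingleton_HH_Od 2 (by omega) (by omega)
  have hH1 : Subsingleton (Coh.HH P (((homFunctor S.X₂).rightDerived 0).obj M) 1) :=
    H10Coh.subsingleton_HH_of_iso (t _) 1 (subsingleton_HH_hom_twists (-c) d le_rfl (by omega))
  let T₁ := ShortComplex.mk a (cokernel.π a) (cokernel.condition a)
  have hT₁ : T₁.ShortExact := { exact := ShortComplex.exact_cokernel a }
  let j : cokernel a ⟶ ((homFunctor S.X₁).rightDerived 0).obj M := cokernel.desc a b wa
  haveI : Mono j := ea.mono_cokernelDesc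
  have hjd : j ≫ δ 0 = 0 := by
    rw [← cancel_epi (cokernel.π a), cokernel.π_desc_assoc, wd, comp_zero]
  let T₂ := ShortComplex.mk j (δ 0) hjd
  have hT₂ : T₂.ShortExact := by
    refine { exact := ?_ }
    let φ : ShortComplex.mk b (δ 0) wd ⟶ T₂ :=
      { τ₁ := cokernel.π a, τ₂ := 𝟙 _, τ₃ := 𝟙 _,
        comm₁₂ := (cokernel.π_desc _ _ _).trans (Category.comp_id _).symm }
    haveI : Epi φ.τ₁ := inferInstanceAs (Epi (cokernel.π a))
    haveI : IsIso φ.τ₂ := inferInstanceAs (IsIso (𝟙 _))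
    haveI : Mono φ.τ₃ := inferInstanceAs (Mono (𝟙 _))
    exact (ShortComplex.exact_iff_of_epi_of_isIso_of_mono φ).1 ed
  have hcok : Subsingleton (Coh.HH P (cokernel a) 1) := subsingleton_HH_X₃ hT₁ 1 hH1 hH2
  have hsurj := H28Lift.surjective_app_top hT₂ hcok
  let e := e₁ ≪≫ e₂
  obtain ⟨z, hz⟩ := hsurj (e.inv.app ⊤ ((1 : Γ(Y, ι ⁻¹ᵁ ⊤)) : Γ(Coh.structureModule Y, ι ⁻¹ᵁ ⊤)))
  obtain ⟨θ, hθ⟩ := H10Coh.SheafHom.ofHom_surjective ((t S.X₁).inv.app ⊤ z)
  let π : RefHull.homSh S.X₁ M ⟶ O' ι := (t S.X₁).hom ≫ δ 0 ≫ e.hom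
  refine exists_locFree_extension ι hM S hS hK hQ (Iso.refl _) π (fun x h hh => ?_) θ ?_ hι
  · have h1 : stalkLin (δ 0) x (stalkLin (t S.X₁).hom x h) = 0 := by
      have h2 := ((H29Ref.isIso_iff_bijective_stalk e.hom).1 inferInstance x).1
      refine (injective_iff_map_eq_zero _).1 h2 _ ?_
      change stalkLin e.hom x (stalkLin (δ 0) x (stalkLin (t S.X₁).hom x h)) = 0
      rw [← H29Omega.stalkLin_comp, ← H29Omega.stalkLin_comp]
      exact hh
    obtain ⟨q, hq⟩ : stalkLin (t S.X₁).hom x h ∈ LinearMap.range (stalkLin j x) := by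
      rw [← LinearMap.exact_iff.1 (H06Mod.stalk_exact T₂ hT₂ x)]
      exact h1
    obtain ⟨q, rfl⟩ := H06Mod.surjective_stalk_of_epi (cokernel.π a) x q
    obtain ⟨q, rfl⟩ := ((H29Ref.isIso_iff_bijective_stalk (t S.X₂).hom).1 inferInstance x).2 q
    refine ⟨q, ((H29Ref.isIso_iff_bijective_stalk (t S.X₁).hom).1 inferInstance x).1 ?_⟩
    refine Eq.trans ?_ hq
    change stalkLin (t S.X₁).hom x _ = stalkLin j x (stalkLin (cokernel.π a) x (stalkLin (t S.X₂).hom x q))
    rw [← H29Omega.stalkLin_comp, ← H29Omega.stalkLin_comp, ← H29Omega.stalkLin_comp]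
    have ht := toRightDerivedZero_natTrans (homPre S.f) M
    rw [← precomp_eq_homPre] at ht
    rw [show (precomp S.f).app M ≫ (t S.X₁).hom = (t S.X₂).hom ≫ b from ht.trans (by rw [precomp_eq_homPre]; rfl),
      cokernel.π_desc]
  · rw [hθ]
    show e.hom.app ⊤ ((δ 0).app ⊤ ((t S.X₁).hom.app ⊤ ((t S.X₁).inv.app ⊤ z))) = _
    have h0 : (t S.X₁).hom.app ⊤ ((t S.X₁).inv.app ⊤ z) = z :=
      congr($(congrArg (fun f => Scheme.Modules.Hom.app f ⊤) (t S.X₁).inv_hom_id) z)
    rw [h0]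
    refine (congrArg (e.hom.app ⊤) hz).trans ?_
    exact congr($(congrArg (fun f => Scheme.Modules.Hom.app f ⊤) e.inv_hom_id) _)

end Groth.Agent.H7Serre
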