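import Groth.Agent.H7Serre.Ext
import Groth.Agent.H02CA.SurfStab.Main
import Mathlib.CategoryTheory.Limits.Shapes.Pullback.IsPullback.Kernels

/-!
# Extensions of an ideal of codimension two by an invertible module with generating class
-/

set_option autoImplicit false
set_option linter.style.haveILetI false
set_option linter.unusedSectionVars false
set_option backward.isDefEq.respectTransparency false
set_option synthInstance.maxHeartbeats 400000
set_option maxHeartbeats 1600000

universe u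

open CategoryTheory CategoryTheory.Limits AlgebraicGeometry Opposite TopologicalSpace
open Groth.Agent.H10Inj.SheafExt Groth.Agent.H17.FLI Groth.Agent.H06Mod Groth.Agent.H7ExtEdge

namespace Groth.Agent.H7Serre

section Alg

variable {A : Type*} [CommRing A] [IsLocalRing A] {F J : Type*} [AddCommGroup F] [Module A F] [AddCommGroup J] [Module A J]

/-- An extension of an ideal of a regular pair by a line is free when its class generates. -/
theorem nonempty_equiv_fun_two (l : F) (hl : ∀ a : A, a • l = 0 → a = 0) (p : F →ₗ[A] J)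
    (hp : ∀ y, p y = 0 ↔ ∃ a : A, a • l = y) (ψ : J →ₗ[A] A) (hψ : Function.Injective ψ) (f : Fin 2 → A)
    (hf : ∀ a b : A, a * f 0 + b * f 1 = 0 → ∃ c, a = c * f 1 ∧ b = -c * f 0)
    (hr : ∀ j, ψ j ∈ Ideal.span (Set.range f)) (s : Fin 2 → F) (hs : ∀ i, ψ (p (s i)) = f i) (v : A)
    (hv : IsUnit v) (hw : f 1 • s 0 - f 0 • s 1 = v • l) : Nonempty (F ≃ₗ[A] (Fin 2 → A)) := by
  refine ⟨(LinearEquiv.ofBijective (Fintype.linearCombination A s) ⟨?_, fun y => ?_⟩).symm⟩
  · refine (injective_iff_map_eq_zero _).2 fun a ha => ?_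
    rw [Fintype.linearCombination_apply, Fin.sum_univ_two] at ha
    have h1 := congrArg (ψ ∘ₗ p) ha
    simp only [map_add, map_smul, LinearMap.comp_apply, hs, map_zero, smul_eq_mul] at h1
    obtain ⟨c, h0, h1⟩ := hf _ _ h1
    have hc : c * v = 0 := hl _ (by
      rw [mul_smul, ← hw, smul_sub, smul_smul, smul_smul, ← h0, sub_eq_add_neg, ← neg_smul,
        ← neg_mul, ← h1, ha])
    rw [hv.mul_left_eq_zero] at hc
    subst hc
    exact funext fun i => by fin_cases i <;> [simpa using h0; simpa using h1]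
  · obtain ⟨a, ha⟩ := (Submodule.mem_span_range_iff_exists_fun A).1 (hr (p y))
    have h0 : p (y - ∑ i, a i • s i) = 0 := hψ (by
      simp only [map_sub, map_sum, map_smul, hs, smul_eq_mul, map_zero]
      exact sub_eq_zero.2 ha.symm)
    obtain ⟨c, hc⟩ := (hp _).1 h0
    refine ⟨a + (c * hv.unit⁻¹.1) • ![f 1, -f 0], ?_⟩
    rw [map_add, map_smul, Fintype.linearCombination_apply, Fintype.linearCombination_apply, Fin.sum_univ_two,
      Fin.sum_univ_two]
    simp only [Matrix.cons_val_zero, Matrix.cons_val_one, neg_smul, ← sub_eq_add_neg, hw, smul_smul]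
    rw [mul_assoc, IsUnit.val_inv_mul, mul_one, hc, Fin.sum_univ_two]
    abel

/-- An extension of a line by a line is free. -/
theorem nonempty_equiv_fun_two_of_split (l : F) (hl : ∀ a : A, a • l = 0 → a = 0) (p : F →ₗ[A] J)
    (hp : ∀ y, p y = 0 ↔ ∃ a : A, a • l = y) (ψ : J →ₗ[A] A) (hψ : Function.Injective ψ) (s : F)
    (hs : ψ (p s) = 1) : Nonempty (F ≃ₗ[A] (Fin 2 → A)) := by
  refine ⟨(LinearEquiv.ofBijective (Fintype.linearCombination A ![l, s]) ⟨?_, fun y => ?_⟩).symm⟩
  · refine (injective_iff_map_eq_zero _).2 fun a ha => ?_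
    rw [Fintype.linearCombination_apply, Fin.sum_univ_two] at ha
    simp only [Matrix.cons_val_zero, Matrix.cons_val_one] at ha
    have h1 : a 1 = 0 := by
      have h := congrArg (ψ ∘ₗ p) ha
      simpa [map_add, map_smul, (hp l).2 ⟨1, one_smul A l⟩, hs] using h
    rw [h1, zero_smul, add_zero] at ha
    exact funext fun i => by fin_cases i <;> [exact hl _ ha; exact h1]
  · obtain ⟨c, hc⟩ := (hp (y - ψ (p y) • s)).1 (hψ (by simp [map_sub, map_smul, hs]))
    refine ⟨![c, ψ (p y)], ?_⟩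
    rw [Fintype.linearCombination_apply, Fin.sum_univ_two]
    simp [hc]

/-- The first member of a regular pair is regular. -/
theorem eq_zero_of_mul_fst {f : Fin 2 → A} (hf : Res.Regular f) (z : A) (hz : f 0 * z = 0) : z = 0 := by
  obtain ⟨⟨-, h0⟩, -⟩ := hf
  have hbot : Res.spanOf (fun i : Fin 0 => f i.castSucc.castSucc) = ⊥ := by
    show Ideal.span _ = ⊥
    rw [Set.range_eq_empty, Ideal.span_empty]
  have h2 : Ideal.Quotient.mk (Res.spanOf (fun i : Fin 0 => f i.castSucc.castSucc)) z = 0 := by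
    refine h0 ?_
    show f 0 • (Ideal.Quotient.mk _ z) = f 0 • (0 : A ⧸ _)
    rw [smul_zero, ← Ideal.Quotient.mk_eq_mk, ← Submodule.Quotient.mk_smul, Submodule.Quotient.mk_eq_zero,
      smul_eq_mul, hz]
    exact zero_mem _
  rwa [Ideal.Quotient.eq_zero_iff_mem, hbot, Ideal.mem_bot] at h2

/-- Regular pairs have only the Koszul syzygy. -/
theorem syzygy_of_regular {f : Fin 2 → A} (hf' : Res.Regular f) (a b : A) (h : a * f 0 + b * f 1 = 0) :
    ∃ c, a = c * f 1 ∧ b = -c * f 0 := by
  obtain ⟨-, h1⟩ := id hf'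
  have hb : b ∈ Ideal.span {f 0} := by
    have hs : Res.spanOf (fun i : Fin 1 => f i.castSucc) = Ideal.span {f 0} := by
      show Ideal.span _ = _
      rw [Set.range_unique]
      rfl
    rw [← hs, ← Ideal.Quotient.eq_zero_iff_mem]
    refine h1 ?_
    show f 1 • (Ideal.Quotient.mk _ b) = f 1 • (0 : A ⧸ _)
    rw [smul_zero, ← Ideal.Quotient.mk_eq_mk, ← Submodule.Quotient.mk_smul, Submodule.Quotient.mk_eq_zero, hs,
      Ideal.mem_span_singleton']
    exact ⟨-a, by rw [smul_eq_mul]; linear_combination -h⟩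
  obtain ⟨d, hd⟩ := Ideal.mem_span_singleton'.1 hb
  have hreg : ∀ z : A, f 0 * z = 0 → z = 0 := eq_zero_of_mul_fst hf'
  refine ⟨-d, sub_eq_zero.1 (hreg _ ?_), by rw [neg_neg, hd]⟩
  rw [← hd] at h
  linear_combination h

/-- A pair with only the Koszul syzygy in the maximal ideal lies in no proper principal ideal. -/
theorem isUnit_of_dvd {f : Fin 2 → A} (hf : ∀ a b : A, a * f 0 + b * f 1 = 0 → ∃ c, a = c * f 1 ∧ b = -c * f 0)
    (r : A) (h : ∀ i, ∃ t, f i = r * t) : IsUnit r := by
  choose t ht using h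
  obtain ⟨c, hc0, hc1⟩ := hf (t 1) (-t 0) (by rw [ht 0, ht 1]; ring)
  have h1 : (1 - c * r) * t 0 = 0 := by
    have := hc1; rw [ht 0] at this; linear_combination (-1 : A) * this
  have h2 : (1 - c * r) * t 1 = 0 := by
    have := hc0; rw [ht 1] at this; linear_combination this
  by_cases hu : IsUnit r
  · exact hu
  have h3 : IsUnit (1 - c * r) :=
    IsLocalRing.isUnit_one_sub_self_of_mem_nonunits _ (fun hh => hu (isUnit_of_mul_isUnit_right hh))
  rw [h3.mul_right_eq_zero] at h1 h2
  obtain ⟨d, hd, -⟩ := hf 1 0 (by rw [ht 0, ht 1, h1, h2]; ring)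
  rw [ht 1, h2, mul_zero, mul_zero] at hd
  exact absurd hd one_ne_zero

end Alg

variable {P Y : Scheme.{u}} [IsLocallyNoetherian P] (ι : Y ⟶ P) [IsClosedImmersion ι]

theorem stalkLin_idealModι (I : P.IdealSheafData) (x : P) (q : (ClSub.idealMod I).presheaf.stalk x) :
    stalkLin (ClSub.idealModι I) x q = H29Omega.idealStalk I x q • H29Ref.oneStalk x := by
  obtain ⟨U, hU, m, rfl⟩ := (ClSub.idealMod I).presheaf.exists_germ_eq q
  rw [stalkLin_germ, H29Omega.idealStalk_germ, ← H29Ref.germ_unit_eq_smul]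
  rfl

theorem idealStalk_surjective_of_not_mem (x : P) (hx : x ∉ Set.range ι.base) :
    Function.Surjective (H29Omega.idealStalk ι.ker x) := by
  intro r
  haveI h0 : Subsingleton ((O' ι).presheaf.stalk x) :=
    H16Derived.ProjFormula.subsingleton_stalk_push ι (Coh.structureModule Y) x hx
  obtain ⟨q, hq⟩ : r • H29Ref.oneStalk x ∈ LinearMap.range (stalkLin (idealSeq ι).f x) := by
    rw [← LinearMap.exact_iff.1 (H06Mod.stalk_exact _ (shortExact_idealSeq ι) x), LinearMap.mem_ker]
    exact h0.elim _ _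
  refine ⟨q, (H29Ref.bijective_smul_oneStalk x).1 ?_⟩
  simp only [LinearMap.toSpanSingleton_apply]
  rw [← stalkLin_idealModι]
  exact hq

theorem exists_regular_pair (hι : RegImm.IsRegularImmersionOfCodim RegImm.Kind.regular 2 ι) (y : Y) :
    ∃ f : Fin 2 → P.presheaf.stalk (ι.base y),
      (∀ a b, a * f 0 + b * f 1 = 0 → ∃ c, a = c * f 1 ∧ b = -c * f 0) ∧ (∀ z, z * f 0 = 0 → z = 0) ∧
      Ideal.span (Set.range f) = idI ι y ∧
      LinearMap.range (H29Omega.idealStalk ι.ker (ι.base y)) = idI ι y := by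
  obtain ⟨U, hU, f, -, hf⟩ := exists_chart ι hι y
  obtain ⟨h1, h2⟩ := hf y hU
  exact ⟨_, syzygy_of_regular h1, fun z hz => eq_zero_of_mul_fst h1 z ((mul_comm _ _).trans hz), h2, H29Omega.range_idealStalk_ker ι y⟩

theorem evalStalk_precomp {M M' : P.Modules} (u : M' ⟶ M) (N : P.Modules) (x : P)
    (e : (RefHull.homSh M N).presheaf.stalk x) :
    RefHull.evalStalk M' N x (stalkLin ((precomp u).app N) x e) =
      (RefHull.evalStalk M N x e).comp (stalkLin u x) := by
  obtain ⟨U, hU, g, rfl⟩ := (RefHull.homSh M N).presheaf.exists_germ_eq e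
  refine LinearMap.ext fun v => ?_
  erw [stalkLin_germ, RefHull.evalStalk_germ]
  rw [LinearMap.comp_apply, RefHull.evalStalk_germ, precomp_app_apply]
  obtain ⟨V, hV, m, rfl⟩ := M'.presheaf.exists_germ_eq v
  rw [RefHull.stalkMapₗ_germ, stalkLin_germ]

variable {M : P.Modules} (hM : PicF.IsInvertible M) (S : ShortComplex P.Modules) (hS : S.ShortExact)
  (h₁ : Coh.IsCoh S.X₁) (h₂ : FlatMod.IsFinLocFree S.X₂) (e₃ : S.X₃ ≅ ClSub.idealMod ι.ker)
  (π : RefHull.homSh S.X₁ M ⟶ O' ι)
  (hker : ∀ (x : P) h, stalkLin π x h = 0 → ∃ e, stalkLin ((precomp S.f).app M) x e = h)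
  (θ : S.X₁ ⟶ M)
  (hθ : π.app ⊤ (RefHull.ofHom θ ⊤) = ((1 : Γ(Y, ι ⁻¹ᵁ ⊤)) : Γ(Coh.structureModule Y, ι ⁻¹ᵁ ⊤)))

include hM hS h₁ h₂ e₃ hker hθ in
/-- The extension by the lifted class is locally free of rank two. -/
theorem exists_locFree_extension (hι : RegImm.IsRegularImmersionOfCodim RegImm.Kind.regular 2 ι) :
    ∃ (F : P.Modules) (a : M ⟶ F) (b : F ⟶ ClSub.idealMod ι.ker) (w : a ≫ b = 0),
      (ShortComplex.mk a b w).ShortExact ∧ FlatMod.IsFinLocFree F ∧
      ∀ x, Nonempty (F.presheaf.stalk x ≃ₗ[P.presheaf.stalk x] (Fin 2 → P.presheaf.stalk x)) := by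
  haveI := hS.mono_f
  haveI := hS.epi_g
  let b : pushout θ S.f ⟶ ClSub.idealMod ι.ker := pushout.desc 0 (S.g ≫ e₃.hom) (by
    rw [comp_zero, ← Category.assoc, S.zero, Limits.zero_comp])
  let T := ShortComplex.mk (pushout.inl θ S.f) b (pushout.inl_desc _ _ _)
  have hpo := IsPushout.of_hasPushout θ S.f
  have hT : T.ShortExact := by
    haveI : Mono T.f := inferInstanceAs (Mono (pushout.inl θ S.f))
    haveI : Epi T.g := by
      have : Epi (pushout.inr θ S.f ≫ T.g) := by
        show Epi (pushout.inr θ S.f ≫ pushout.desc 0 _ _)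
        rw [pushout.inr_desc]; infer_instance
      exact epi_of_epi (pushout.inr θ S.f) T.g
    refine { exact := ShortComplex.exact_of_g_is_cokernel _ (CokernelCofork.IsColimit.ofπ T.g T.zero
      (fun k hk => e₃.inv ≫ hS.exact.desc (pushout.inr θ S.f ≫ k)
        (by rw [← reassoc_of% hpo.w, hk, comp_zero])) (fun k hk => ?_) (fun k hk m hm => ?_)) }
    · refine hpo.hom_ext ?_ ?_
      · rw [← Category.assoc, T.zero, Limits.zero_comp, hk]
      · show pushout.inr θ S.f ≫ pushout.desc 0 _ _ ≫ _ = _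
        rw [pushout.inr_desc_assoc, Category.assoc, e₃.hom_inv_id_assoc, hS.exact.g_desc]
    · refine (cancel_epi T.g).1 (hm.trans ?_)
      refine hpo.hom_ext ?_ ?_
      · rw [← Category.assoc, T.zero, Limits.zero_comp, hk]
      · show _ = pushout.inr θ S.f ≫ pushout.desc 0 _ _ ≫ _
        rw [pushout.inr_desc_assoc, Category.assoc, e₃.hom_inv_id_assoc, hS.exact.g_desc]
  have hF : Coh.IsCoh (pushout θ S.f) :=
    H10Coh.isCoh_X₂ hT (H11Ample.isCoh_of_isInvertible hM) (H10Coh.isCoh_of_iso e₃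
      (H10Coh.isCoh_of_iso (IsColimit.coconePointUniqueUpToIso (cokernelIsCokernel _) hS.exact.gIsCokernel)
        (H10Coh.isCoh_cokernel S.f h₁.1 (H16Derived.KFlat.Stalk.isCoh_of_isFinLocFree h₂))))
  have hstalk : ∀ x, Nonempty
      ((pushout θ S.f).presheaf.stalk x ≃ₗ[P.presheaf.stalk x] (Fin 2 → P.presheaf.stalk x)) := by
    intro x
    let eM : M.presheaf.stalk x ≃ₗ[P.presheaf.stalk x] P.presheaf.stalk x :=
      (H02CA.SurfStab.stalkFree_one hM x).some.equivFun.trans (LinearEquiv.funUnique (Fin 1) _ _)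
    let m0 := eM.symm 1
    have hm0 : ∀ m, m = eM m • m0 := fun m => eM.injective (by rw [map_smul, eM.apply_symm_apply, smul_eq_mul, mul_one])
    let ψ := H29Omega.idealStalk ι.ker x
    let l := stalkLin T.f x m0
    have hl : ∀ a : P.presheaf.stalk x, a • l = 0 → a = 0 := fun a ha => by
      rw [← map_smul] at ha
      have h := congrArg eM (H06Mod.stalk_injective T hT x (ha.trans (map_zero _).symm))
      rwa [map_smul, eM.apply_symm_apply, smul_eq_mul, mul_one, map_zero] at h
    have hp : ∀ y, stalkLin T.g x y = 0 ↔ ∃ a : P.presheaf.stalk x, a • l = y := fun y => by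
      rw [← LinearMap.mem_ker, LinearMap.exact_iff.1 (H06Mod.stalk_exact T hT x)]
      exact ⟨fun ⟨m, hm⟩ => ⟨eM m, by rw [← map_smul, ← hm0, hm]⟩, fun ⟨a, ha⟩ => ⟨a • m0, by rw [map_smul, ha]⟩⟩
    by_cases hx : x ∈ Set.range ι.base
    swap
    · obtain ⟨q, hq⟩ := idealStalk_surjective_of_not_mem ι x hx 1
      obtain ⟨s, hs⟩ := H06Mod.stalk_surjective T hT x q
      exact nonempty_equiv_fun_two_of_split l hl _ hp ψ (H29Omega.idealStalk_injective _ _) s
        ((congrArg ψ hs).trans hq)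
    obtain ⟨y, rfl⟩ := hx
    obtain ⟨f, hf, hf0, hspan, hrange⟩ := exists_regular_pair ι hι y
    have hr : ∀ j, ψ j ∈ Ideal.span (Set.range f) := fun j => by rw [hspan, ← hrange]; exact ⟨j, rfl⟩
    have hsurj : ∀ i, ∃ a : S.X₂.presheaf.stalk (ι.base y), ψ (stalkLin (S.g ≫ e₃.hom) _ a) = f i := fun i => by
      obtain ⟨j, hj⟩ : f i ∈ LinearMap.range ψ := by rw [hrange, ← hspan]; exact Ideal.subset_span ⟨i, rfl⟩
      obtain ⟨a, ha⟩ := H06Mod.surjective_stalk_of_epi (S.g ≫ e₃.hom) (ι.base y) j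
      exact ⟨a, (congrArg ψ ha).trans hj⟩
    choose a ha using hsurj
    let inr := stalkLin (pushout.inr θ S.f) (ι.base y)
    have hgb : ∀ c, stalkLin b (ι.base y) (inr c) = stalkLin (S.g ≫ e₃.hom) (ι.base y) c := fun c => by
      rw [← H29Omega.stalkLin_comp, pushout.inr_desc]
    obtain ⟨k0, hk0⟩ : f 1 • a 0 - f 0 • a 1 ∈ LinearMap.range (stalkLin S.f (ι.base y)) := by
      rw [← LinearMap.exact_iff.1 (H06Mod.stalk_exact S hS _), LinearMap.mem_ker]
      have h1 : stalkLin (S.g ≫ e₃.hom) (ι.base y) (f 1 • a 0 - f 0 • a 1) = 0 :=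
        H29Omega.idealStalk_injective _ _ (by
          show ψ _ = ψ 0
          rw [map_sub, map_sub, map_smul, map_smul, map_smul, map_smul, ha, ha, map_zero, smul_eq_mul, smul_eq_mul]
          ring)
      rw [H29Omega.stalkLin_comp] at h1
      exact (injective_iff_map_eq_zero _).1 ((H29Ref.isIso_iff_bijective_stalk e₃.hom).1 inferInstance (ι.base y)).1 _ h1
    let v := eM (stalkLin θ (ι.base y) k0)
    refine nonempty_equiv_fun_two l hl _ hp ψ (H29Omega.idealStalk_injective _ _) f hf hr (fun i => inr (a i))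
      (fun i => by rw [← ha i]; exact congrArg ψ (hgb (a i))) v ?_ ?_
    swap
    · show f 1 • inr (a 0) - f 0 • inr (a 1) = v • stalkLin (pushout.inl θ S.f) _ m0
      rw [← map_smul, ← map_smul, ← map_sub, ← hk0, ← map_smul, ← hm0, ← H29Omega.stalkLin_comp, ← hpo.w,
        H29Omega.stalkLin_comp]
    -- a homomorphism on the kernel taking the value one modulo the ideal
    obtain ⟨n, ⟨bQ⟩⟩ := H22Alg.KExists.stalk_free h₂ (ι.base y)
    have hcoef : ∀ j, ∃ c : Fin 2 → P.presheaf.stalk (ι.base y),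
        c 0 * f 0 + c 1 * f 1 = ψ (stalkLin (S.g ≫ e₃.hom) _ (bQ j)) := fun j => by
      obtain ⟨c, hc⟩ := (Submodule.mem_span_range_iff_exists_fun _).1 (hr (stalkLin (S.g ≫ e₃.hom) _ (bQ j)))
      rw [Fin.sum_univ_two] at hc
      exact ⟨c, hc⟩
    choose c hc using hcoef
    let lam := fun i : Fin 2 => bQ.constr (P.presheaf.stalk (ι.base y)) fun j => c j i
    have hlam : ∀ q, lam 0 q * f 0 + lam 1 q * f 1 = ψ (stalkLin (S.g ≫ e₃.hom) _ q) := fun q => by
      have h := LinearMap.congr_fun (bQ.ext (f₁ := f 0 • lam 0 + f 1 • lam 1)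
        (f₂ := ψ.comp (stalkLin (S.g ≫ e₃.hom) _)) fun j => by
          simp only [LinearMap.add_apply, LinearMap.smul_apply, lam, Module.Basis.constr_basis, smul_eq_mul,
            LinearMap.comp_apply]
          rw [← hc j]; ring) q
      simp only [LinearMap.add_apply, LinearMap.smul_apply, smul_eq_mul, LinearMap.comp_apply] at h
      rw [← h]; ring
    obtain ⟨φ0, hφ0⟩ : ∃ φ0 : S.X₁.presheaf.stalk (ι.base y) →ₗ[P.presheaf.stalk (ι.base y)]
        P.presheaf.stalk (ι.base y), ∀ k, lam 1 (stalkLin S.f _ k) = -φ0 k * f 0 := by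
      have hex : ∀ k, ∃ d, lam 1 (stalkLin S.f (ι.base y) k) = -d * f 0 := fun k => by
        have h0 : stalkLin (S.g ≫ e₃.hom) (ι.base y) (stalkLin S.f _ k) = 0 := by
          rw [← H29Omega.stalkLin_comp, ← Category.assoc, S.zero, Limits.zero_comp]
          exact H17.KoszTwist.stalkLin_zero _ _
        obtain ⟨d, -, hd⟩ := hf _ _ ((hlam _).trans (by rw [h0, map_zero]))
        exact ⟨d, hd⟩
      choose d hd using hex
      exact ⟨{ toFun := d
               map_add' := fun k k' => sub_eq_zero.1 (hf0 _ (by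
                 have h := hd (k + k'); rw [map_add, map_add, hd, hd] at h; linear_combination h))
               map_smul' := fun r k => sub_eq_zero.1 (hf0 _ (by
                 have h := hd (r • k); rw [map_smul, map_smul, hd, smul_eq_mul] at h
                 rw [RingHom.id_apply, smul_eq_mul]; linear_combination h)) }, hd⟩
    have hval : 1 - φ0 k0 ∈ Ideal.span (Set.range f) := by
      have hA : ∀ i, ψ (stalkLin (S.g ≫ e₃.hom) _ (a i)) = f i := ha
      obtain ⟨c0, -, e01⟩ := hf (lam 0 (a 0) - 1) (lam 1 (a 0)) (by linear_combination (hlam (a 0)).trans (hA 0))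
      obtain ⟨c1, -, e11⟩ := hf (lam 0 (a 1)) (lam 1 (a 1) - 1) (by linear_combination (hlam (a 1)).trans (hA 1))
      have h := hφ0 k0
      rw [hk0, map_sub, map_smul, map_smul, smul_eq_mul, smul_eq_mul, e01,
        show lam 1 (a 1) = 1 + -c1 * f 0 by linear_combination e11] at h
      have h1 : 1 + f 1 * c0 - c1 * f 0 - φ0 k0 = 0 := hf0 _ (by linear_combination (-1 : P.presheaf.stalk (ι.base y)) * h)
      rw [show 1 - φ0 k0 = c1 * f 0 + (-c0) * f 1 by linear_combination h1]
      exact add_mem (Ideal.mul_mem_left _ _ (Ideal.subset_span ⟨0, rfl⟩))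
        (Ideal.mul_mem_left _ _ (Ideal.subset_span ⟨1, rfl⟩))
    -- the class generates
    let φM : S.X₁.presheaf.stalk (ι.base y) →ₗ[P.presheaf.stalk (ι.base y)] M.presheaf.stalk (ι.base y) :=
      φ0.smulRight m0
    obtain ⟨hh, hhe⟩ := (H29Ref.evalStalk_bijective S.X₁ M (H10Coh.isFP_of_isCoh _ h₁) (ι.base y)).2 φM
    let gθ := (RefHull.homSh S.X₁ M).presheaf.germ ⊤ (ι.base y) trivial (RefHull.ofHom θ ⊤)
    have hgθ : stalkLin π (ι.base y) gθ = oneGerm ι y := by
      erw [stalkLin_germ]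
      rw [hθ]
      rfl
    have hevθ : RefHull.evalStalk S.X₁ M (ι.base y) gθ = stalkLin θ (ι.base y) := by
      refine LinearMap.ext fun k => ?_
      erw [RefHull.evalStalk_germ]
      obtain ⟨W, hW, m, rfl⟩ := S.X₁.presheaf.exists_germ_eq k
      show RefHull.stalkMapₗ θ (ι.base y) _ = _
      rw [RefHull.stalkMapₗ_germ, stalkLin_germ]
    obtain ⟨t, ht⟩ := exists_smul_oneGerm ι y (stalkLin π (ι.base y) hh)
    obtain ⟨e, he⟩ := hker _ (hh - t • gθ) (by rw [map_sub, map_smul, hgθ, ht, sub_self])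
    have hev := congrArg (fun z => RefHull.evalStalk S.X₁ M (ι.base y) z k0) he
    simp only [evalStalk_precomp, map_sub, map_smul, LinearMap.comp_apply, LinearMap.sub_apply,
      LinearMap.smul_apply, hevθ, hhe, hk0] at hev
    have hev' := congrArg eM hev
    simp only [φM, LinearMap.smulRight_apply, map_sub, map_smul, m0, eM.apply_symm_apply, smul_eq_mul, mul_one]
      at hev'
    have hprop : Ideal.span (Set.range f) ≤ IsLocalRing.maximalIdeal (P.presheaf.stalk (ι.base y)) :=
      hspan ▸ IsLocalRing.le_maximalIdeal (RingHom.ker_ne_top _)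
    refine isUnit_of_mul_isUnit_right (x := t) (IsLocalRing.notMem_maximalIdeal.1 fun htv => ?_)
    refine (IsLocalRing.maximalIdeal.isMaximal (P.presheaf.stalk (ι.base y))).ne_top ((Ideal.eq_top_iff_one _).2 ?_)
    have e1 : (1 : P.presheaf.stalk (ι.base y)) = (1 - φ0 k0) + (f 1 * eM (RefHull.evalStalk S.X₂ M _ e (a 0)) -
        f 0 * eM (RefHull.evalStalk S.X₂ M _ e (a 1))) + t * v := by
      linear_combination (-1 : P.presheaf.stalk (ι.base y)) * hev'
    rw [e1]
    exact add_mem (add_mem (hprop hval) (sub_mem (Ideal.mul_mem_right _ _ (hprop (Ideal.subset_span ⟨1, rfl⟩)))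
      (Ideal.mul_mem_right _ _ (hprop (Ideal.subset_span ⟨0, rfl⟩))))) htv
  refine ⟨_, T.f, T.g, T.zero, hT, H29Ref.isFinLocFree_of_free_stalk _ hF fun x => ?_, hstalk⟩
  exact Module.Free.of_equiv (hstalk x).some.symm

end Groth.Agent.H7Serre
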